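import Cfsg.Agent.PermCert.Basic
import Cfsg.Agent.Simplicity.PrimeCriterion

/-!
Consequences of a certified chain: stabilisers, orbits, faithfulness, transitivity, simplicity.
-/

namespace Cfsg.Lib.PermCert

open MulAction

/-- The points of a level. -/
def points (L : Level) : List ℕ := L.tr.map (·.1)

theorem check_cons {n : ℕ} {L : Level} {r : List Level} (h : check n (L :: r) = true) :
    LevelOK n L r ∧ check n r = true :=
  ⟨levelOK (Bool.and_eq_true_iff.mp h).1, (Bool.and_eq_true_iff.mp h).2⟩

theorem tail_le {n : ℕ} {L : Level} {r : List Level} (h : check n (L :: r) = true) :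
    grp n r ≤ grp n (L :: r) := by
  apply (Subgroup.closure_le _).mpr
  rintro g ⟨s, hs, rfl⟩
  exact perm_mem_grp (c := L :: r) ((check_cons h).1.down s hs).1

theorem tail_fix {n : ℕ} {L : Level} {r : List Level} (h : check n (L :: r) = true) {g : Equiv.Perm (Fin n)}
    (hg : g ∈ grp n r) : (g ⟨L.b, (check_cons h).1.b_lt⟩ : ℕ) = L.b := by
  have ok := (check_cons h).1
  have : grp n r ≤ stabilizer (Equiv.Perm (Fin n)) (⟨L.b, ok.b_lt⟩ : Fin n) := by
    apply (Subgroup.closure_le _).mpr
    rintro g ⟨s, hs, rfl⟩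
    simp only [SetLike.mem_coe, mem_stabilizer_iff, Equiv.Perm.smul_def]
    apply Fin.ext
    rw [perm_apply (ok.gens_valid s (ok.down s hs).1)]
    exact (ok.down s hs).2
  exact congrArg Fin.val (mem_stabilizer_iff.mp (this hg))

/-- Decomposition along the first level. -/
theorem decompose {n : ℕ} {L : Level} {r : List Level} (h : check n (L :: r) = true) {g : Equiv.Perm (Fin n)}
    (hg : g ∈ grp n (L :: r)) :
    ∃ e ∈ L.tr, (g ⟨L.b, (check_cons h).1.b_lt⟩ : ℕ) = e.1 ∧ ∃ v ∈ grp n r, g = perm n e.2.1 * v := by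
  have hg' : g ∈ prodSet n (L :: r) := by rw [(chain_spec h).1]; exact hg
  obtain ⟨e, he, v, hv, rfl⟩ := hg'
  rw [(chain_spec (check_cons h).2).1] at hv
  refine ⟨e, he, ?_, v, hv, rfl⟩
  have hvb : v ⟨L.b, (check_cons h).1.b_lt⟩ = ⟨L.b, (check_cons h).1.b_lt⟩ := Fin.ext (tail_fix h hv)
  have he' := tree_entry (check_cons h).1.tree he
  rw [Equiv.Perm.mul_apply, hvb, perm_apply he'.1]
  exact he'.2

theorem mem_points_of_mem {n : ℕ} {L : Level} {r : List Level} (h : check n (L :: r) = true)
    {g : Equiv.Perm (Fin n)} (hg : g ∈ grp n (L :: r)) :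
    (g ⟨L.b, (check_cons h).1.b_lt⟩ : ℕ) ∈ points L := by
  obtain ⟨e, he, hge, -⟩ := decompose h hg
  rw [hge]; exact List.mem_map.mpr ⟨e, he, rfl⟩

/-- The stabiliser of the first base point is the tail. -/
theorem stab_eq_tail {n : ℕ} {L : Level} {r : List Level} (h : check n (L :: r) = true) :
    grp n (L :: r) ⊓ stabilizer (Equiv.Perm (Fin n)) (⟨L.b, (check_cons h).1.b_lt⟩ : Fin n) = grp n r := by
  refine le_antisymm ?_ (le_inf (tail_le h) fun g hg => mem_stabilizer_iff.mpr (Fin.ext (tail_fix h hg)))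
  rintro g ⟨hg, hs⟩
  obtain ⟨e, he, hge, v, hv, rfl⟩ := decompose h hg
  have hb : e.1 = L.b := hge.symm.trans (congrArg Fin.val (mem_stabilizer_iff.mp hs))
  have ok := (check_cons h).1
  have h0 := List.all_eq_true.mp ok.tree 0 (List.mem_range.mpr ok.nonempty)
  rw [List.getElem?_eq_getElem ok.nonempty] at h0
  simp only [Bool.and_eq_true, beq_iff_eq, if_pos] at h0
  have : e = L.tr[0]'ok.nonempty := List.inj_on_of_nodup_map ok.nodup he (List.getElem_mem _) (hb.trans h0.2.1.symm)
  subst this
  have h1 := isId_sound (n := n) (w := [(L.tr[0]'ok.nonempty).2.1]) (by simpa using h0.1.1) h0.2.2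
  simp only [wperm_cons, wperm_nil, mul_one] at h1
  rw [h1, one_mul]; exact hv

/-- An element of the group fixing every base point is trivial. -/
theorem eq_one_of_fix_base {n : ℕ} : ∀ {c : List Level}, check n c = true → ∀ {g : Equiv.Perm (Fin n)},
    g ∈ grp n c → (∀ L ∈ c, ∀ x : Fin n, (x : ℕ) = L.b → g x = x) → g = 1 := by
  intro c
  induction c with
  | nil =>
    intro _ g hg _
    simpa [grp, topGens] using hg
  | cons L r ih =>
    intro h g hg hfix
    have : g ∈ grp n r := by
      rw [← stab_eq_tail h]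
      exact ⟨hg, mem_stabilizer_iff.mpr (hfix L (by simp) _ rfl)⟩
    exact ih (check_cons h).2 this fun L' hL' => hfix L' (by simp [hL'])

/-- Bit set of a list. -/
def bitsOf (l : List ℕ) : ℕ := l.foldr (fun x a => a ||| 1 <<< x) 0

theorem testBit_bitsOf (l : List ℕ) (x : ℕ) : (bitsOf l).testBit x = true ↔ x ∈ l := by
  induction l with
  | nil => simp [bitsOf]
  | cons a l ih =>
    simp only [bitsOf, List.foldr_cons, Nat.testBit_or, Bool.or_eq_true, Nat.one_shiftLeft,
      Nat.testBit_two_pow, decide_eq_true_eq, List.mem_cons] at *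
    rw [ih]; exact ⟨fun h => h.elim Or.inr (Or.inl ∘ Eq.symm), fun h => h.elim (Or.inr ∘ Eq.symm) Or.inl⟩

/-- The group is 2-transitive on the first orbit, which contains the whole base. -/
def twoTransCheck : List Level → Bool
  | L :: M :: r =>
      (bitsOf (L.b :: points M) == bitsOf (points L)) &&
      (M :: r).all (fun K => decide (K.b ∈ points L))
  | _ => false

/-- The first orbit, as a type. -/
abbrev firstOrbit {n : ℕ} {L : Level} {r : List Level} (h : check n (L :: r) = true) : Set (Fin n) :=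
  orbit (grp n (L :: r)) (⟨L.b, (check_cons h).1.b_lt⟩ : Fin n)

theorem mem_firstOrbit {n : ℕ} {L : Level} {r : List Level} (h : check n (L :: r) = true) (x : Fin n) :
    x ∈ firstOrbit h ↔ (x : ℕ) ∈ points L := by
  constructor
  · rintro ⟨g, rfl⟩; exact mem_points_of_mem h g.2
  · intro hx
    obtain ⟨g, hg, hgx⟩ := orbit_top h x hx
    exact ⟨⟨g, hg⟩, Fin.ext hgx⟩

theorem card_firstOrbit {n : ℕ} {L : Level} {r : List Level} (h : check n (L :: r) = true) :
    Nat.card (firstOrbit h) = L.tr.length := by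
  have hnd : (points L).Nodup := (check_cons h).1.nodup
  have hlt : ∀ x ∈ points L, x < n := by
    intro x hx
    obtain ⟨e, he, rfl⟩ := List.mem_map.mp hx
    have he' := tree_entry (check_cons h).1.tree he
    rw [← he'.2]
    exact valid_lt he'.1 (check_cons h).1.b_lt
  have e : ↥(firstOrbit h) ≃ ↥(points L).toFinset :=
    { toFun := fun x => ⟨x.1.val, List.mem_toFinset.mpr ((mem_firstOrbit h x.1).mp x.2)⟩
      invFun := fun x => ⟨⟨x.1, hlt _ (List.mem_toFinset.mp x.2)⟩, (mem_firstOrbit h _).mpr (List.mem_toFinset.mp x.2)⟩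
      left_inv := fun x => rfl
      right_inv := fun x => rfl }
  rw [Nat.card_congr e, Nat.card_eq_fintype_card, Fintype.card_coe, List.toFinset_card_of_nodup hnd, points,
    List.length_map]

theorem faithful_firstOrbit {n : ℕ} {L : Level} {r : List Level} (h : check n (L :: r) = true)
    (hb : ∀ K ∈ r, K.b ∈ points L) : FaithfulSMul (grp n (L :: r)) (firstOrbit h) := by
  constructor
  intro g g' hgg
  rw [← inv_mul_eq_one]
  apply Subtype.ext
  refine eq_one_of_fix_base h (g⁻¹ * g').2 fun K hK x hx => ?_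
  have hxo : x ∈ firstOrbit h := (mem_firstOrbit h x).mpr <| by
    rcases List.mem_cons.mp hK with rfl | hK
    · rw [hx]
      obtain ⟨e, he⟩ : ∃ e, e ∈ K.tr := ⟨_, List.getElem_mem (check_cons h).1.nonempty⟩
      have := mem_points_of_mem h (one_mem _)
      simpa using this
    · rw [hx]; exact hb K hK
  have : g • (⟨x, hxo⟩ : firstOrbit h) = g' • ⟨x, hxo⟩ := hgg _
  have h2 : (g : Equiv.Perm (Fin n)) x = (g' : Equiv.Perm (Fin n)) x := congrArg Subtype.val this
  simp only [Subgroup.coe_mul, Subgroup.coe_inv, Equiv.Perm.mul_apply, ← h2]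
  simp

theorem two_pretransitive_firstOrbit {n : ℕ} {L M : Level} {r : List Level}
    (h : check n (L :: M :: r) = true) (ht : twoTransCheck (L :: M :: r) = true) :
    IsMultiplyPretransitive (grp n (L :: M :: r)) (firstOrbit h) 2 := by
  simp only [twoTransCheck, Bool.and_eq_true, beq_iff_eq] at ht
  have hmem : ∀ x, x ∈ points L ↔ x = L.b ∨ x ∈ points M := by
    intro x; rw [← testBit_bitsOf, ← ht.1, testBit_bitsOf, List.mem_cons]
  have hM := (check_cons h).2
  set G := grp n (L :: M :: r)
  let a0 : firstOrbit h := ⟨⟨L.b, (check_cons h).1.b_lt⟩, ⟨1, one_smul _ _⟩⟩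
  let c0 : Fin n := ⟨M.b, (check_cons hM).1.b_lt⟩
  have hc0 : c0 ∈ firstOrbit h := by
    rw [mem_firstOrbit, hmem]; right
    have := mem_points_of_mem hM (one_mem _)
    simpa [c0] using this
  have key : ∀ x : firstOrbit h, x ≠ a0 → ∃ g : G, g • a0 = a0 ∧ g • (⟨c0, hc0⟩ : firstOrbit h) = x := by
    intro x hx
    have hxm : (x.1 : ℕ) ∈ points M := by
      rcases (hmem _).mp ((mem_firstOrbit h x.1).mp x.2) with e | e
      · exact absurd (Subtype.ext (Fin.ext e)) hx
      · exact e
    obtain ⟨g, hg, hgx⟩ := orbit_top hM x.1 hxm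
    exact ⟨⟨g, tail_le h hg⟩, Subtype.ext (Fin.ext (tail_fix h hg)), Subtype.ext (Fin.ext hgx)⟩
  have hfirst : ∀ x : firstOrbit h, ∃ g : G, g • a0 = x := fun x => by
    obtain ⟨g, hg⟩ := x.2
    exact ⟨g, Subtype.ext hg⟩
  have std : ∀ a b : firstOrbit h, a ≠ b → ∃ g : G, g • a0 = a ∧ g • (⟨c0, hc0⟩ : firstOrbit h) = b := by
    intro a b hab
    obtain ⟨g, hg⟩ := hfirst a
    have : g⁻¹ • b ≠ a0 := fun e => hab (by rw [← hg, ← e, smul_inv_smul])
    obtain ⟨k, hk1, hk2⟩ := key _ this
    exact ⟨g * k, by rw [mul_smul, hk1, hg], by rw [mul_smul, hk2, smul_inv_smul]⟩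
  rw [is_two_pretransitive_iff]
  intro a b c d hab hcd
  obtain ⟨g, hg1, hg2⟩ := std a b hab
  obtain ⟨k, hk1, hk2⟩ := std c d hcd
  exact ⟨k * g⁻¹, by rw [← hg1, mul_smul, inv_smul_smul, hk1], by rw [← hg2, mul_smul, inv_smul_smul, hk2]⟩

/-- Check for simplicity by a prime dividing the degree; every generator comes with a word in
elements of order `p` of the group. -/
def primeCheck (n p : ℕ) (wit : List (List PP)) : List Level → Bool
  | L :: c => (L.tr.length % p == 0) && ((size (L :: c)) % p ^ 2 != 0) &&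
      L.gens.all (fun s => wit.any fun w =>
        w.all (fun g => valid n g && isId n (List.replicate p g) && sift n (L :: c) [g]) &&
          (valid n s && isId n (pinv s :: w)))
  | [] => false

/-- Simplicity from a certificate: 2-transitive of degree divisible by `p`, `p²` not dividing the order,
generators of order `p`. -/
theorem isSimpleGroup_of_chain {n p : ℕ} (hp : p.Prime) {wit : List (List PP)} {L M : Level} {r : List Level}
    (h : check n (L :: M :: r) = true) (ht : twoTransCheck (L :: M :: r) = true)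
    (hc : primeCheck n p wit (L :: M :: r) = true) : IsSimpleGroup (grp n (L :: M :: r)) := by
  simp only [primeCheck, Bool.and_eq_true, beq_iff_eq, bne_iff_ne, List.all_eq_true, List.any_eq_true] at hc
  obtain ⟨⟨hdeg, hsq⟩, hgens⟩ := hc
  have hfaith : FaithfulSMul (grp n (L :: M :: r)) (firstOrbit h) := faithful_firstOrbit h fun K hK => by
    simp only [twoTransCheck, Bool.and_eq_true, List.all_eq_true, decide_eq_true_eq] at ht
    exact ht.2 K hK
  have h2 := two_pretransitive_firstOrbit h ht
  have hprim : IsPreprimitive (grp n (L :: M :: r)) (firstOrbit h) := isPreprimitive_of_is_two_pretransitive h2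
  have : Nonempty (firstOrbit h) := ⟨⟨_, ⟨1, one_smul _ _⟩⟩⟩
  have hd : p ∣ Nat.card (firstOrbit h) := by rw [card_firstOrbit]; exact Nat.dvd_of_mod_eq_zero hdeg
  have hcard : p ∣ Nat.card (grp n (L :: M :: r)) := by
    rw [card_grp h, size]; exact (Nat.dvd_of_mod_eq_zero hdeg).mul_right _
  have : Nontrivial (grp n (L :: M :: r)) := Finite.one_lt_card_iff_nontrivial.mp
    (hp.one_lt.trans_le (Nat.le_of_dvd Nat.card_pos hcard))
  refine Simplicity.isSimpleGroup_of_prime_degree_divisor (α := firstOrbit h) hp hd ?_ ?_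
  · rw [card_grp h]; exact fun hd' => hsq (Nat.mod_eq_zero_of_dvd hd')
  · rw [eq_top_iff]
    refine le_trans (Subgroup.closure_closure_coe_preimage (k := {g | ∃ s ∈ topGens (L :: M :: r), perm n s = g})).ge ?_
    apply (Subgroup.closure_le _).mpr
    rintro ⟨g, hg⟩ ⟨s, hs, (rfl : perm n s = g)⟩
    obtain ⟨w, -, hw, hv, hid⟩ := hgens s hs
    have hid' := isId_sound (n := n) (by
      intro g hg
      rcases List.mem_cons.mp hg with e | e
      · rw [e]; exact valid_pinv hv
      · exact (hw g e).1.1) hid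
    rw [wperm_cons, perm_pinv hv, inv_mul_eq_one] at hid'
    have hmem : ∀ g ∈ w, perm n g ∈ grp n (L :: M :: r) := fun g hg => by
      simpa using mem_grp_of_sift h (w := [g]) (by simpa using (hw g hg).1.1) (hw g hg).2
    suffices H : ∀ (w' : List PP) (hm : ∀ g ∈ w', perm n g ∈ grp n (L :: M :: r)),
        (∀ g ∈ w', (valid n g = true ∧ isId n (List.replicate p g) = true)) →
        (⟨wperm n w', by
          simp only [wperm]
          exact list_prod_mem fun x hx => by obtain ⟨g, hg, rfl⟩ := List.mem_map.mp hx; exact hm g hg⟩ : grp n (L :: M :: r)) ∈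
          Subgroup.closure {g : grp n (L :: M :: r) | g ^ p = 1} by
      have := H w hmem fun g hg => (hw g hg).1
      change (⟨perm n s, hg⟩ : grp n (L :: M :: r)) ∈ Subgroup.closure {g : grp n (L :: M :: r) | g ^ p = 1}
      convert this using 1
      exact Subtype.ext hid'
    intro w'
    induction w' with
    | nil => intro hm _; exact one_mem _
    | cons g w' ih =>
      intro hm hpow
      have h1 := Subgroup.mul_mem _ (Subgroup.subset_closure (k := {g : grp n (L :: M :: r) | g ^ p = 1})
        (show (⟨perm n g, hm g (by simp)⟩ : grp n (L :: M :: r)) ∈ _ from Subtype.ext (by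
          have := isId_sound (n := n) (fun x hx => by rw [List.eq_of_mem_replicate hx]; exact (hpow g (by simp)).1)
            (hpow g (by simp)).2
          simpa [wperm] using this)))
        (ih (fun x hx => hm x (by simp [hx])) (fun x hx => hpow x (by simp [hx])))
      convert h1 using 1
      exact Subtype.ext (wperm_cons n g w')

/-- Check for simplicity from a simple point stabiliser: the degree has two prime divisors. -/
def twoPrimeCheck (p q : ℕ) : List Level → Bool
  | L :: _ => (L.tr.length % p == 0) && (L.tr.length % q == 0)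
  | [] => false

/-- Simplicity from a simple stabiliser. -/
theorem isSimpleGroup_of_chain_stab {n p q : ℕ} (hp : p.Prime) (hq : q.Prime) (hpq : p ≠ q)
    {L M : Level} {r : List Level}
    (h : check n (L :: M :: r) = true) (ht : twoTransCheck (L :: M :: r) = true)
    (hc : twoPrimeCheck p q (L :: M :: r) = true) (hs : IsSimpleGroup (grp n (M :: r))) :
    IsSimpleGroup (grp n (L :: M :: r)) := by
  simp only [twoPrimeCheck, Bool.and_eq_true, beq_iff_eq] at hc
  have hfaith : FaithfulSMul (grp n (L :: M :: r)) (firstOrbit h) := faithful_firstOrbit h fun K hK => by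
    simp only [twoTransCheck, Bool.and_eq_true, List.all_eq_true, decide_eq_true_eq] at ht
    exact ht.2 K hK
  let a0 : firstOrbit h := ⟨⟨L.b, (check_cons h).1.b_lt⟩, ⟨1, one_smul _ _⟩⟩
  have e : stabilizer (grp n (L :: M :: r)) a0 ≃* grp n (M :: r) :=
    { toFun := fun g => ⟨(g.1 : Equiv.Perm (Fin n)), by
        rw [← stab_eq_tail h]
        exact ⟨g.1.2, mem_stabilizer_iff.mpr (congrArg Subtype.val (mem_stabilizer_iff.mp g.2) :)⟩⟩
      invFun := fun g => ⟨⟨g.1, tail_le h g.2⟩, mem_stabilizer_iff.mpr (Subtype.ext (Fin.ext (tail_fix h g.2)))⟩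
      left_inv := fun g => rfl
      right_inv := fun g => rfl
      map_mul' := fun g g' => rfl }
  have : Nontrivial (stabilizer (grp n (L :: M :: r)) a0) := e.toEquiv.nontrivial
  have : IsSimpleGroup (stabilizer (grp n (L :: M :: r)) a0) :=
    IsSimpleGroup.isSimpleGroup_of_surjective e.symm.toMonoidHom e.symm.surjective
  refine Simplicity.isSimpleGroup_of_simple_stabilizer a0 (two_pretransitive_firstOrbit h ht) hp hq hpq ?_ ?_ <;>
    rw [card_firstOrbit]
  exacts [Nat.dvd_of_mod_eq_zero hc.1, Nat.dvd_of_mod_eq_zero hc.2]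

end Cfsg.Lib.PermCert
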