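import Cfsg.Agent.PermCert.Basic

/-!
Spanning-tree certificates for orbits on objects coded by natural numbers.
-/

namespace Cfsg.Lib.PermCert

/-- A spanning forest: first child, next sibling. -/
inductive OTree : Type
  | nil : OTree
  | node (val gen : ℕ) (child next : OTree) : OTree

/-- Check a tree hanging below `parent`. -/
def otCheck (act : PP → ℕ → ℕ) (gens : List PP) : ℕ → OTree → Bool
  | _, .nil => true
  | parent, .node v g c s =>
    (match gens[g]? with
      | some p => act p parent == v
      | none => false) && otCheck act gens v c && otCheck act gens parent s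

/-- The values in a tree. -/
def otVals : OTree → List ℕ
  | .nil => []
  | .node v _ c s => v :: (otVals c ++ otVals s)

/-- The set of keys occurring in a tree, as a bit set. -/
def otBits (key : ℕ → ℕ) : OTree → ℕ → ℕ
  | .nil, acc => acc
  | .node v _ c s, acc => otBits key s (otBits key c (acc ||| 1 <<< key v))

theorem testBit_otBits (key : ℕ → ℕ) : ∀ (t : OTree) (acc j : ℕ),
    (otBits key t acc).testBit j = true ↔ acc.testBit j = true ∨ ∃ v ∈ otVals t, key v = j := by
  intro t
  induction t with
  | nil => simp [otBits, otVals]
  | node v g c s ihc ihs =>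
    intro acc j
    simp only [otBits, otVals, ihs, ihc, Nat.testBit_or, Bool.or_eq_true, Nat.one_shiftLeft,
      Nat.testBit_two_pow, decide_eq_true_eq, List.mem_cons, List.mem_append, or_and_right,
      exists_or, exists_eq_left, or_assoc]

/-- A spanning tree only reaches the orbit: any property preserved by the generators propagates. -/
theorem otCheck_sound {act : PP → ℕ → ℕ} {gens : List PP} {P : ℕ → Prop}
    (hP : ∀ g ∈ gens, ∀ v, P v → P (act g v)) :
    ∀ (t : OTree) (parent : ℕ), otCheck act gens parent t = true → P parent → ∀ v ∈ otVals t, P v := by
  intro t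
  induction t with
  | nil => simp [otVals]
  | node v g c s ihc ihs =>
    intro parent h hp w hw
    simp only [otCheck, Bool.and_eq_true] at h
    obtain ⟨⟨hg, hc⟩, hs⟩ := h
    have hv : P v := by
      split at hg
      · next p hp' =>
        rw [beq_iff_eq] at hg
        rw [← hg]; exact hP p (List.mem_of_getElem? hp') _ hp
      · cases hg
    simp only [otVals, List.mem_cons, List.mem_append] at hw
    rcases hw with rfl | hw | hw
    · exact hv
    · exact ihc v hc hv w hw
    · exact ihs parent hs hp w hw

/-- A root together with its tree covers all targets (compared through bit sets of keys). -/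
def otCovers (act : PP → ℕ → ℕ) (gens : List PP) (key : ℕ → ℕ) (root : ℕ) (t : OTree)
    (targets : List ℕ) : Bool :=
  otCheck act gens root t &&
    (fun hits want => hits &&& want == want)
      (otBits key t (1 <<< key root)) (targets.foldr (fun v a => a ||| 1 <<< key v) 0)

/-- Everything covered has any invariant property of the root. -/
theorem otCovers_sound {act : PP → ℕ → ℕ} {gens : List PP} {key : ℕ → ℕ} {root : ℕ} {t : OTree}
    {targets : List ℕ} (h : otCovers act gens key root t targets = true) {P : ℕ → Prop}
    (hroot : P root) (hP : ∀ g ∈ gens, ∀ v, P v → P (act g v))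
    {x : ℕ} (hx : x ∈ targets) (hkey : ∀ v, P v → key v = key x → v = x) : P x := by
  simp only [otCovers, Bool.and_eq_true, beq_iff_eq] at h
  have hw : (targets.foldr (fun v a => a ||| 1 <<< key v) 0).testBit (key x) = true := by
    clear h hkey
    induction targets with
    | nil => cases hx
    | cons a l ih =>
      simp only [List.foldr_cons, Nat.testBit_or, Bool.or_eq_true, Nat.one_shiftLeft, Nat.testBit_two_pow,
        decide_eq_true_eq]
      rcases List.mem_cons.mp hx with rfl | hx
      · exact Or.inr rfl
      · exact Or.inl (by simpa only [Nat.one_shiftLeft] using ih hx)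
  have hh : (otBits key t (1 <<< key root)).testBit (key x) = true := by
    rw [← h.2, Nat.testBit_and, Bool.and_eq_true] at hw
    exact hw.1
  rcases (testBit_otBits _ _ _ _).mp hh with h0 | ⟨v, hv, hk⟩
  · rw [Nat.one_shiftLeft, Nat.testBit_two_pow, decide_eq_true_eq] at h0
    exact hkey root hroot h0 ▸ hroot
  · have hv' := otCheck_sound hP t root h.1 hroot v hv
    exact hkey v hv' hk ▸ hv'

end Cfsg.Lib.PermCert
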