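import Mathlib

/-!
Kernel-checkable certificates for explicit permutation groups on `Fin n`.
A permutation is stored as a pair of natural numbers (forward table, inverse table),
16 bits per point, so that evaluation is a shift and a remainder.
-/

namespace Cfsg.Lib.PermCert

/-- A permutation with its inverse, 16 bits per point. -/
abbrev PP : Type := ℕ × ℕ

/-- Table lookup. -/
def ap (p x : ℕ) : ℕ := (p >>> (16 * x)) % 65536

/-- The inverse pair. -/
def pinv (g : PP) : PP := (g.2, g.1)

/-- Check that the two tables are mutually inverse maps of `{0, …, n-1}`. -/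
def valid (n : ℕ) (g : PP) : Bool :=
  (List.range n).all fun x =>
    decide (ap g.1 x < n) && decide (ap g.2 x < n) && (ap g.1 (ap g.2 x) == x) && (ap g.2 (ap g.1 x) == x)

/-- The permutation described by a pair (the identity when the pair is invalid). -/
def perm (n : ℕ) (g : PP) : Equiv.Perm (Fin n) :=
  if h : valid n g = true then
    { toFun := fun x => ⟨ap g.1 x, by
        have := List.all_eq_true.mp h x.1 (List.mem_range.mpr x.2); simp_all⟩
      invFun := fun x => ⟨ap g.2 x, by
        have := List.all_eq_true.mp h x.1 (List.mem_range.mpr x.2); simp_all⟩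
      left_inv := fun x => Fin.ext (by
        have := List.all_eq_true.mp h x.1 (List.mem_range.mpr x.2); simp_all)
      right_inv := fun x => Fin.ext (by
        have := List.all_eq_true.mp h x.1 (List.mem_range.mpr x.2); simp_all) }
  else 1

theorem valid_lt {n : ℕ} {g : PP} (h : valid n g = true) {x : ℕ} (hx : x < n) : ap g.1 x < n := by
  have := List.all_eq_true.mp h x (List.mem_range.mpr hx); simp_all

theorem perm_apply {n : ℕ} {g : PP} (h : valid n g = true) (x : Fin n) :
    (perm n g x : ℕ) = ap g.1 x := by
  simp [perm, h]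

theorem valid_pinv {n : ℕ} {g : PP} (h : valid n g = true) : valid n (pinv g) = true := by
  rw [valid, List.all_eq_true] at h ⊢
  intro x hx
  have := h x hx
  simp_all [pinv]

theorem perm_pinv {n : ℕ} {g : PP} (h : valid n g = true) : perm n (pinv g) = (perm n g)⁻¹ := by
  symm
  rw [inv_eq_iff_mul_eq_one]
  ext x
  rw [Equiv.Perm.mul_apply, perm_apply h, perm_apply (valid_pinv h), Equiv.Perm.one_apply]
  have := List.all_eq_true.mp h x.1 (List.mem_range.mpr x.2)
  simp_all [pinv]

/-- Apply a word (rightmost factor first). -/
def evalWord (w : List PP) (x : ℕ) : ℕ := w.foldr (fun g y => ap g.1 y) x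

/-- The product of a word. -/
def wperm (n : ℕ) (w : List PP) : Equiv.Perm (Fin n) := (w.map (perm n)).prod

@[simp] theorem wperm_nil (n : ℕ) : wperm n [] = 1 := rfl

@[simp] theorem wperm_cons (n : ℕ) (g : PP) (w : List PP) :
    wperm n (g :: w) = perm n g * wperm n w := by simp [wperm]

theorem wperm_apply {n : ℕ} {w : List PP} (h : ∀ g ∈ w, valid n g = true) (x : Fin n) :
    (wperm n w x : ℕ) = evalWord w x := by
  induction w with
  | nil => simp [evalWord]
  | cons g w ih =>
    simp only [wperm_cons, Equiv.Perm.mul_apply]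
    rw [perm_apply (h g (by simp)), ih (fun g' hg => h g' (by simp [hg]))]
    rfl

/-- The word acts as the identity. -/
def isId (n : ℕ) (w : List PP) : Bool := (List.range n).all fun x => evalWord w x == x

theorem isId_sound {n : ℕ} {w : List PP} (hv : ∀ g ∈ w, valid n g = true)
    (h : isId n w = true) : wperm n w = 1 := by
  ext x
  rw [wperm_apply hv]
  have := List.all_eq_true.mp h x.1 (List.mem_range.mpr x.2)
  simp_all

/-- One level of a stabiliser chain: base point, generators, and a Schreier tree whose entries are
(point, transversal element, generator index, parent entry index). -/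
structure Level where
  b : ℕ
  gens : List PP
  tr : List (ℕ × PP × ℕ × ℕ)

/-- The generators of the head level. -/
def topGens : List Level → List PP
  | [] => []
  | L :: _ => L.gens

/-- Strip a word through the levels. -/
def sift (n : ℕ) : List Level → List PP → Bool
  | [], w => isId n w
  | L :: r, w =>
    match L.tr.find? (fun e => e.1 == evalWord w L.b) with
    | some e => sift n r (pinv e.2.1 :: w)
    | none => false

/-- Check the Schreier tree of a level. -/
def checkTree (n : ℕ) (L : Level) : Bool :=
  (List.range L.tr.length).all fun i =>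
    match L.tr[i]? with
    | none => false
    | some e =>
      valid n e.2.1 && (ap e.2.1.1 L.b == e.1) &&
      (if i = 0 then (e.1 == L.b) && isId n [e.2.1]
       else match L.tr[e.2.2.2]?, L.gens[e.2.2.1]? with
        | some p, some s => decide (e.2.2.2 < i) &&
            (List.range n).all (fun x => ap e.2.1.1 x == ap s.1 (ap p.2.1.1 x))
        | _, _ => false)

/-- Check one level over the levels below it. -/
def checkLevel (n : ℕ) (L : Level) (r : List Level) : Bool :=
  decide (L.b < n) && L.gens.all (valid n) && decide (0 < L.tr.length) && checkTree n L &&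
  decide (L.tr.map (·.1)).Nodup &&
  (topGens r).all (fun g => decide (g ∈ L.gens) && (ap g.1 L.b == L.b)) &&
  L.gens.all (fun s => L.tr.all fun e =>
    match L.tr.find? (fun e' => e'.1 == ap s.1 e.1) with
    | some e' => sift n r [pinv e'.2.1, s, e.2.1]
    | none => false)

/-- Check a chain. -/
def check (n : ℕ) : List Level → Bool
  | [] => true
  | L :: r => checkLevel n L r && check n r

/-- The product set of the transversals. -/
def prodSet (n : ℕ) : List Level → Set (Equiv.Perm (Fin n))
  | [] => {1}
  | L :: r => {g | ∃ e ∈ L.tr, ∃ v ∈ prodSet n r, g = perm n e.2.1 * v}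

/-- The group of a chain. -/
def grp (n : ℕ) (c : List Level) : Subgroup (Equiv.Perm (Fin n)) :=
  Subgroup.closure {g | ∃ s ∈ topGens c, perm n s = g}

/-- The product of the orbit lengths. -/
def size : List Level → ℕ
  | [] => 1
  | L :: r => L.tr.length * size r

theorem perm_mem_grp {n : ℕ} {c : List Level} {s : PP} (h : s ∈ topGens c) :
    perm n s ∈ grp n c := Subgroup.subset_closure ⟨s, h, rfl⟩

structure LevelOK (n : ℕ) (L : Level) (r : List Level) : Prop where
  b_lt : L.b < n
  gens_valid : ∀ s ∈ L.gens, valid n s = true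
  nonempty : 0 < L.tr.length
  tree : checkTree n L = true
  nodup : (L.tr.map (·.1)).Nodup
  down : ∀ g ∈ topGens r, g ∈ L.gens ∧ ap g.1 L.b = L.b
  schreier : ∀ s ∈ L.gens, ∀ e ∈ L.tr, ∃ e' ∈ L.tr, e'.1 = ap s.1 e.1 ∧
    sift n r [pinv e'.2.1, s, e.2.1] = true

theorem levelOK {n : ℕ} {L : Level} {r : List Level} (h : checkLevel n L r = true) :
    LevelOK n L r := by
  simp only [checkLevel, Bool.and_eq_true, decide_eq_true_eq, List.all_eq_true,
    beq_iff_eq] at h
  obtain ⟨⟨⟨⟨⟨⟨h1, h2⟩, h3⟩, h4⟩, h5⟩, h6⟩, h7⟩ := h
  refine ⟨h1, h2, h3, h4, h5, h6, fun s hs e he => ?_⟩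
  have := h7 s hs e he
  split at this
  · next e' he' =>
    exact ⟨e', List.mem_of_find?_eq_some he', by simpa using List.find?_some he', this⟩
  · cases this

theorem tree_entry {n : ℕ} {L : Level} (h : checkTree n L = true) {e : ℕ × PP × ℕ × ℕ}
    (he : e ∈ L.tr) : valid n e.2.1 = true ∧ ap e.2.1.1 L.b = e.1 := by
  obtain ⟨i, hi, rfl⟩ := List.getElem_of_mem he
  have h0 := List.all_eq_true.mp h i (List.mem_range.mpr hi)
  rw [List.getElem?_eq_getElem hi] at h0
  simp only [Bool.and_eq_true, beq_iff_eq] at h0
  exact h0.1

theorem tree_mem {n : ℕ} {L : Level} (h : checkTree n L = true)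
    (hv : ∀ s ∈ L.gens, valid n s = true) (G : Subgroup (Equiv.Perm (Fin n)))
    (hG : ∀ s ∈ L.gens, perm n s ∈ G) : ∀ e ∈ L.tr, perm n e.2.1 ∈ G := by
  suffices H : ∀ i (hi : i < L.tr.length), perm n (L.tr[i]).2.1 ∈ G by
    intro e he; obtain ⟨i, hi, rfl⟩ := List.getElem_of_mem he; exact H i hi
  intro i
  induction i using Nat.strong_induction_on with
  | _ i ih =>
    intro hi
    have hm : L.tr[i] ∈ L.tr := List.getElem_mem hi
    have h0 := List.all_eq_true.mp h i (List.mem_range.mpr hi)
    rw [List.getElem?_eq_getElem hi] at h0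
    simp only [Bool.and_eq_true, beq_iff_eq] at h0
    obtain ⟨⟨hu, _⟩, h1⟩ := h0
    by_cases hz : i = 0
    · rw [if_pos hz, Bool.and_eq_true] at h1
      have : wperm n [(L.tr[i]).2.1] = 1 := isId_sound (by simpa using hu) h1.2
      simp only [wperm_cons, wperm_nil, mul_one] at this
      rw [this]; exact G.one_mem
    · rw [if_neg hz] at h1
      split at h1
      · next p s hp hs =>
        simp only [Bool.and_eq_true, decide_eq_true_eq, List.all_eq_true, beq_iff_eq] at h1
        obtain ⟨hlt, heq⟩ := h1
        obtain ⟨hlt', rfl⟩ := List.getElem?_eq_some_iff.mp hp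
        have hsm : s ∈ L.gens := List.mem_of_getElem? hs
        have hpv : valid n (L.tr[(L.tr[i]).2.2.2]).2.1 = true :=
          (tree_entry h (List.getElem_mem hlt')).1
        have : perm n (L.tr[i]).2.1 = perm n s * perm n (L.tr[(L.tr[i]).2.2.2]).2.1 := by
          ext x
          rw [Equiv.Perm.mul_apply, perm_apply hu, perm_apply (hv s hsm), perm_apply hpv]
          exact heq x.1 (List.mem_range.mpr x.2)
        rw [this]
        exact G.mul_mem (hG s hsm) (ih _ hlt hlt')
      · cases h1

theorem sift_sound {n : ℕ} : ∀ {c : List Level}, check n c = true → ∀ {w : List PP},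
    (∀ g ∈ w, valid n g = true) → sift n c w = true → wperm n w ∈ prodSet n c := by
  intro c
  induction c with
  | nil =>
    intro _ w hw h
    exact isId_sound hw h
  | cons L r ih =>
    intro hc w hw h
    simp only [check, Bool.and_eq_true] at hc
    simp only [sift] at h
    split at h
    · next e he =>
      have hm := List.mem_of_find?_eq_some he
      have hv := (tree_entry (levelOK hc.1).tree hm).1
      have := ih hc.2 (w := pinv e.2.1 :: w) (by
        intro g hg; rcases List.mem_cons.mp hg with rfl | hg
        · exact valid_pinv hv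
        · exact hw g hg) h
      refine ⟨e, hm, _, this, ?_⟩
      rw [wperm_cons, perm_pinv hv]; group
    · cases h

theorem chain_spec {n : ℕ} : ∀ {c : List Level}, check n c = true →
    prodSet n c = (grp n c : Set (Equiv.Perm (Fin n))) ∧ Nat.card (grp n c) = size c := by
  intro c
  induction c with
  | nil =>
    intro _
    have hb : grp n ([] : List Level) = ⊥ := by simp [grp, topGens]
    rw [hb]; simp [prodSet, size]
  | cons L r ih =>
    intro hc
    simp only [check, Bool.and_eq_true] at hc
    have ok := levelOK hc.1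
    obtain ⟨ihs, ihc⟩ := ih hc.2
    set H := grp n (L :: r)
    have hgen : ∀ s ∈ L.gens, perm n s ∈ H := fun s hs => perm_mem_grp (c := L :: r) hs
    have hle : grp n r ≤ H := by
      apply (Subgroup.closure_le _).mpr
      rintro g ⟨s, hs, rfl⟩; exact hgen s (ok.down s hs).1
    have hfix : ∀ v ∈ grp n r, v ⟨L.b, ok.b_lt⟩ = ⟨L.b, ok.b_lt⟩ := by
      have : grp n r ≤ MulAction.stabilizer (Equiv.Perm (Fin n)) (⟨L.b, ok.b_lt⟩ : Fin n) := by
        apply (Subgroup.closure_le _).mpr
        rintro g ⟨s, hs, rfl⟩
        simp only [SetLike.mem_coe, MulAction.mem_stabilizer_iff, Equiv.Perm.smul_def]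
        apply Fin.ext
        rw [perm_apply (ok.gens_valid s (ok.down s hs).1)]
        exact (ok.down s hs).2
      intro v hv
      exact MulAction.mem_stabilizer_iff.mp (this hv)
    have h1 : (1 : Equiv.Perm (Fin n)) ∈ prodSet n (L :: r) := by
      have h0 := List.all_eq_true.mp ok.tree 0 (List.mem_range.mpr ok.nonempty)
      rw [List.getElem?_eq_getElem ok.nonempty] at h0
      simp only [Bool.and_eq_true, beq_iff_eq, if_pos] at h0
      refine ⟨L.tr[0]'ok.nonempty, List.getElem_mem _, 1, ?_, ?_⟩
      · rw [ihs]; exact one_mem _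
      · have := isId_sound (n := n) (w := [(L.tr[0]'ok.nonempty).2.1]) (by simpa using h0.1.1) h0.2.2
        simpa using this.symm
    have hset : prodSet n (L :: r) = (H : Set (Equiv.Perm (Fin n))) := by
      apply Set.Subset.antisymm
      · rintro g ⟨e, he, v, hv, rfl⟩
        rw [ihs] at hv
        exact H.mul_mem (tree_mem ok.tree ok.gens_valid H hgen e he) (hle hv)
      · intro g hg
        change g ∈ H.toSubmonoid at hg
        simp only [H, grp, Subgroup.closure_toSubmonoid_of_finite] at hg
        induction hg using Submonoid.closure_induction_left with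
        | one => exact h1
        | mul_left x hx y hy ihy =>
          obtain ⟨s, hs, rfl⟩ := hx
          obtain ⟨e, he, v, hv, rfl⟩ := ihy
          obtain ⟨e', he', _, hsift⟩ := ok.schreier s hs e he
          have hev := (tree_entry ok.tree he').1
          have := sift_sound hc.2 (w := [pinv e'.2.1, s, e.2.1]) (by
            intro g hg
            simp only [List.mem_cons, List.not_mem_nil, or_false] at hg
            rcases hg with h' | h' | h'
            · rw [h']; exact valid_pinv hev
            · rw [h']; exact ok.gens_valid s hs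
            · rw [h']; exact (tree_entry ok.tree he).1) hsift
          rw [ihs] at this hv
          refine ⟨e', he', wperm n [pinv e'.2.1, s, e.2.1] * v, ?_, ?_⟩
          · rw [ihs]; exact mul_mem this hv
          · simp only [wperm_cons, wperm_nil, mul_one, perm_pinv hev]; group
    refine ⟨hset, ?_⟩
    let f : {e // e ∈ L.tr} × ↥(grp n r) → ↥H := fun p =>
      ⟨perm n p.1.1.2.1 * p.2, H.mul_mem (tree_mem ok.tree ok.gens_valid H hgen _ p.1.2) (hle p.2.2)⟩
    have hf : Function.Bijective f := by
      constructor
      · rintro ⟨⟨e, he⟩, v⟩ ⟨⟨e', he'⟩, v'⟩ h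
        have h' : perm n e.2.1 * (v : Equiv.Perm (Fin n)) = perm n e'.2.1 * v' := Subtype.ext_iff.mp h
        have hb := congrArg (fun g : Equiv.Perm (Fin n) => (g ⟨L.b, ok.b_lt⟩ : ℕ)) h'
        simp only [Equiv.Perm.mul_apply, hfix _ v.2, hfix _ v'.2,
          perm_apply (tree_entry ok.tree he).1, perm_apply (tree_entry ok.tree he').1,
          (tree_entry ok.tree he).2, (tree_entry ok.tree he').2] at hb
        have : e = e' := List.inj_on_of_nodup_map ok.nodup he he' hb
        subst this
        simp only [mul_right_inj] at h'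
        simp [Subtype.ext_iff, h']
      · rintro ⟨g, hg⟩
        have hg' : g ∈ prodSet n (L :: r) := by rw [hset]; exact hg
        obtain ⟨e, he, v, hv, rfl⟩ := hg'
        rw [ihs] at hv
        exact ⟨⟨⟨e, he⟩, ⟨v, hv⟩⟩, rfl⟩
    have hnd : L.tr.Nodup := List.Nodup.of_map _ ok.nodup
    rw [← Nat.card_eq_of_bijective f hf, Nat.card_prod, ihc, size]
    congr 1
    rw [Nat.card_eq_fintype_card, Fintype.card_of_subtype L.tr.toFinset (by simp),
      List.toFinset_card_of_nodup hnd]

/-- The order of a certified group. -/
theorem card_grp {n : ℕ} {c : List Level} (h : check n c = true) :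
    Nat.card (grp n c) = size c := (chain_spec h).2

/-- Sifting proves membership. -/
theorem mem_grp_of_sift {n : ℕ} {c : List Level} (h : check n c = true) {w : List PP}
    (hw : ∀ g ∈ w, valid n g = true) (hs : sift n c w = true) : wperm n w ∈ grp n c := by
  have := sift_sound h hw hs
  rwa [(chain_spec h).1] at this

/-- The orbit of the first base point. -/
theorem orbit_top {n : ℕ} {L : Level} {r : List Level} (h : check n (L :: r) = true)
    (x : Fin n) (hx : (x : ℕ) ∈ L.tr.map (·.1)) :
    ∃ g ∈ grp n (L :: r), (g ⟨L.b, (levelOK (Bool.and_eq_true_iff.mp h).1).b_lt⟩ : ℕ) = x := by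
  have ok := levelOK (Bool.and_eq_true_iff.mp h).1
  obtain ⟨e, he, hex⟩ := List.mem_map.mp hx
  refine ⟨perm n e.2.1, tree_mem ok.tree ok.gens_valid _ (fun s hs => perm_mem_grp (c := L :: r) hs) e he, ?_⟩
  rw [perm_apply (tree_entry ok.tree he).1, (tree_entry ok.tree he).2, hex]

end Cfsg.Lib.PermCert
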