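import Cfsg.Agent.PermCert.Basic

/-!
Certificates for exact orbits: a search tree of the coded orbit members, each with a parent and a depth,
closed under the generators.
-/

namespace Cfsg.Lib.PermCert

/-- A binary search tree of (value, parent, generator index, depth). -/
inductive STree : Type
  | leaf : STree
  | node (v par gen dep : ℕ) (l r : STree) : STree

/-- The depth stored at a value. -/
def stFind : STree → ℕ → Option ℕ
  | .leaf, _ => none
  | .node v _ _ d l r, x => bif Nat.ble x v then (bif Nat.ble v x then some d else stFind l x) else stFind r x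

/-- The nodes in order. -/
def stNodes : STree → List (ℕ × ℕ × ℕ × ℕ)
  | .leaf => []
  | .node v p g d l r => stNodes l ++ (v, p, g, d) :: stNodes r

/-- The values in order. -/
def stVals (t : STree) : List ℕ := (stNodes t).map (·.1)

/-- A strictly increasing list. -/
def strictInc : List ℕ → Bool
  | [] => true
  | [_] => true
  | a :: b :: l => decide (a < b) && strictInc (b :: l)

theorem pairwise_of_strictInc : ∀ {l : List ℕ}, strictInc l = true → l.Pairwise (· < ·)
  | [], _ => List.Pairwise.nil
  | [_], _ => List.pairwise_singleton _ _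
  | a :: b :: l, h => by
    simp only [strictInc, Bool.and_eq_true, decide_eq_true_eq] at h
    have ih := pairwise_of_strictInc h.2
    refine List.pairwise_cons.mpr ⟨fun c hc => ?_, ih⟩
    rcases List.mem_cons.mp hc with rfl | hc
    · exact h.1
    · exact h.1.trans ((List.pairwise_cons.mp ih).1 c hc)

theorem stFind_mem : ∀ {t : STree} {x d : ℕ}, stFind t x = some d →
    ∃ e ∈ stNodes t, e.1 = x ∧ e.2.2.2 = d
  | .leaf, _, _, h => by simp [stFind] at h
  | .node v p g d' l r, x, d, h => by
    simp only [stFind] at h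
    cases hx : Nat.ble x v
    · rw [hx] at h
      obtain ⟨e, he, h'⟩ := stFind_mem (t := r) h
      exact ⟨e, by simp [stNodes, he], h'⟩
    · cases hv : Nat.ble v x
      · rw [hx, hv] at h
        obtain ⟨e, he, h'⟩ := stFind_mem (t := l) h
        exact ⟨e, by simp [stNodes, he], h'⟩
      · rw [hx, hv] at h
        refine ⟨(v, p, g, d'), by simp [stNodes], ?_, Option.some.inj h⟩
        exact le_antisymm (Nat.le_of_ble_eq_true hv) (Nat.le_of_ble_eq_true hx)

/-- The tree is exactly the orbit of `root`. -/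
def closedOK {γ : Type} (act : γ → ℕ → ℕ) (gens : List γ) (root : ℕ) (t : STree) : Bool :=
  strictInc (stVals t) && (stFind t root).isSome &&
  (stNodes t).all fun e =>
    (gens.all fun g => (stFind t (act g e.1)).isSome) &&
    if e.2.2.2 == 0 then e.1 == root else
      match gens[e.2.2.1]?, stFind t e.2.1 with
      | some g, some d => decide (d < e.2.2.2) && (act g e.2.1 == e.1)
      | _, _ => false

/-- Soundness of `closedOK`. -/
theorem closedOK_sound {γ G X : Type*} [Group G] [MulAction G X] {enc : X → ℕ}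
    (henc : Function.Injective enc) (val : γ → G) (K : Subgroup G) {gens : List γ} {act : γ → ℕ → ℕ}
    (hK : Subgroup.closure {g | ∃ s ∈ gens, val s = g} = K)
    (hspec : ∀ s ∈ gens, ∀ x, enc (val s • x) = act s (enc x)) {t : STree} {x₀ : X} {root : ℕ}
    (hroot : enc x₀ = root)
    (h : strictInc (stVals t) = true ∧ (stFind t root).isSome = true ∧ ∀ e ∈ stNodes t,
      (∀ g ∈ gens, (stFind t (act g e.1)).isSome = true) ∧
      (if e.2.2.2 = 0 then e.1 = root else
        ∃ g, gens[e.2.2.1]? = some g ∧ ∃ d, stFind t e.2.1 = some d ∧ d < e.2.2.2 ∧ act g e.2.1 = e.1)) :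
    (∀ y, y ∈ MulAction.orbit K x₀ ↔ enc y ∈ stVals t) ∧
      (MulAction.orbit K x₀).ncard = (stVals t).length := by
  obtain ⟨hinc, hr, hnodes⟩ := h
  have hfound : ∀ v, (stFind t v).isSome = true → v ∈ stVals t := fun v hv => by
    obtain ⟨d, hd⟩ := Option.isSome_iff_exists.mp hv
    obtain ⟨e, he, h1, -⟩ := stFind_mem hd
    exact List.mem_map.mpr ⟨e, he, h1⟩
  have hreach : ∀ d, ∀ e ∈ stNodes t, e.2.2.2 = d → ∃ y ∈ MulAction.orbit K x₀, enc y = e.1 := by
    intro d
    induction d using Nat.strong_induction_on with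
    | _ d ih =>
      intro e he hd
      have hc := (hnodes e he).2
      by_cases h0 : e.2.2.2 = 0
      · rw [if_pos h0] at hc
        exact ⟨x₀, MulAction.mem_orbit_self x₀, hroot.trans hc.symm⟩
      · rw [if_neg h0] at hc
        obtain ⟨g, hg, d', hd', hlt, hact⟩ := hc
        obtain ⟨e', he', h1, h2⟩ := stFind_mem hd'
        obtain ⟨y, hy, hye⟩ := ih d' (hd ▸ hlt) e' he' h2
        have hgm := List.mem_of_getElem? hg
        refine ⟨val g • y, ?_, by rw [hspec g hgm, hye, h1, hact]⟩
        obtain ⟨k, rfl⟩ := hy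
        exact ⟨⟨val g, hK ▸ Subgroup.subset_closure ⟨g, hgm, rfl⟩⟩ * k, mul_smul _ _ _⟩
  set S : Set X := {y | enc y ∈ stVals t} with hS
  have hSfin : S.Finite := (stVals t).toFinset.finite_toSet.preimage henc.injOn |>.subset fun y hy => by
    simpa [hS] using hy
  have hgen : ∀ k ∈ K, Set.MapsTo (k • ·) S S := by
    intro k hk
    rw [← hK] at hk
    induction hk using Subgroup.closure_induction with
    | mem k hk =>
      obtain ⟨s, hs, rfl⟩ := hk
      intro y hy
      obtain ⟨e, he, hey⟩ := List.mem_map.mp (show enc y ∈ stVals t from hy)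
      show enc (val s • y) ∈ stVals t
      rw [hspec s hs, ← hey]
      exact hfound _ ((hnodes e he).1 s hs)
    | one => intro y hy; simpa using hy
    | mul a b _ _ ha hb => intro y hy; simpa [mul_smul] using ha (hb hy)
    | inv a _ ha =>
      intro y hy
      obtain ⟨z, hz, hzy⟩ :=
        ((Set.Finite.injOn_iff_bijOn_of_mapsTo hSfin ha).mp (MulAction.injective a).injOn).surjOn hy
      have : a⁻¹ • y = z := inv_smul_eq_iff.mpr hzy.symm
      show a⁻¹ • y ∈ S
      rwa [this]
  have hiff : ∀ y, y ∈ MulAction.orbit K x₀ ↔ enc y ∈ stVals t := by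
    refine fun y => ⟨?_, fun hy => ?_⟩
    · rintro ⟨k, rfl⟩
      exact hgen _ k.2 (show enc x₀ ∈ stVals t from hroot ▸ hfound _ hr)
    · obtain ⟨e, he, hey⟩ := List.mem_map.mp hy
      obtain ⟨z, hz, hze⟩ := hreach _ e he rfl
      rwa [← henc (hze.trans hey)]
  refine ⟨hiff, ?_⟩
  have hnd : (stVals t).Nodup := (pairwise_of_strictInc hinc).imp fun h => ne_of_lt h
  rw [← List.toFinset_card_of_nodup hnd, ← Set.ncard_coe_finset]
  refine Set.ncard_congr (fun y _ => enc y) (fun y hy => by simpa using (hiff y).mp hy)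
    (fun a b _ _ h => henc h) fun v hv => ?_
  simp only [List.coe_toFinset, Set.mem_setOf_eq] at hv
  obtain ⟨e, he, rfl⟩ := List.mem_map.mp hv
  obtain ⟨z, hz, hze⟩ := hreach _ e he rfl
  exact ⟨z, hz, hze⟩

theorem closedOK_spec {γ : Type} {act : γ → ℕ → ℕ} {gens : List γ} {root : ℕ} {t : STree}
    (h : closedOK act gens root t = true) :
    strictInc (stVals t) = true ∧ (stFind t root).isSome = true ∧ ∀ e ∈ stNodes t,
      (∀ g ∈ gens, (stFind t (act g e.1)).isSome = true) ∧
      (if e.2.2.2 = 0 then e.1 = root else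
        ∃ g, gens[e.2.2.1]? = some g ∧ ∃ d, stFind t e.2.1 = some d ∧ d < e.2.2.2 ∧ act g e.2.1 = e.1) := by
  simp only [closedOK, Bool.and_eq_true, List.all_eq_true] at h
  refine ⟨h.1.1, h.1.2, fun e he => ⟨(h.2 e he).1, ?_⟩⟩
  have h2 := (h.2 e he).2
  by_cases h0 : e.2.2.2 = 0
  · rw [if_pos h0]; simpa [h0] using h2
  · rw [if_neg h0]
    rw [if_neg (by simpa using h0)] at h2
    split at h2
    · next g d hg hd =>
      simp only [Bool.and_eq_true, decide_eq_true_eq, beq_iff_eq] at h2
      exact ⟨g, hg, d, hd, h2.1, h2.2⟩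
    · cases h2

end Cfsg.Lib.PermCert
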