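import Cfsg.Agent.Golay.Action

/-!
Images of masks by byte tables.
-/

namespace Cfsg.Lib.Golay

open Cfsg Cfsg.Lib.PermCert

/-- A permutation table with three byte tables for its action on masks. -/
abbrev FG : Type := PP × (ℕ × ℕ × ℕ)

/-- Table lookup. -/
def lk (t m : ℕ) : ℕ := Nat.land (Nat.shiftRight t (Nat.mul 24 m)) 16777215

/-- The image of a mask through the tables. -/
def img3 (g : FG) (m : ℕ) : ℕ :=
  Nat.lor (Nat.lor (lk g.2.1 (Nat.land m 255)) (lk g.2.2.1 (Nat.land (Nat.shiftRight m 8) 255)))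
    (lk g.2.2.2 (Nat.shiftRight m 16))

/-- A byte table is correct. -/
def tabOK (p : PP) (t off : ℕ) : Bool :=
  (lk t 0 == 0) && (List.range 8).all fun i => (List.range (2 ^ i)).all fun b =>
    lk t (b + 2 ^ i) == lk t b ||| 1 <<< ap p.1 (off + i)

/-- The tables are correct. -/
def fvalid (g : FG) : Bool :=
  valid 24 g.1 && tabOK g.1 g.2.1 0 && tabOK g.1 g.2.2.1 8 && tabOK g.1 g.2.2.2 16

theorem img_lor (p : PP) (a b : ℕ) : img p (a ||| b) = img p a ||| img p b := by
  refine Nat.eq_of_testBit_eq fun j => Bool.eq_iff_iff.mpr ?_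
  simp only [testBit_img, Nat.testBit_or, Bool.or_eq_true]
  constructor
  · rintro ⟨x, hx, h | h, he⟩
    · exact Or.inl ⟨x, hx, h, he⟩
    · exact Or.inr ⟨x, hx, h, he⟩
  · rintro (⟨x, hx, h, he⟩ | ⟨x, hx, h, he⟩)
    · exact ⟨x, hx, Or.inl h, he⟩
    · exact ⟨x, hx, Or.inr h, he⟩

theorem img_single (p : PP) {x : ℕ} (hx : x < 24) : img p (2 ^ x) = 1 <<< ap p.1 x := by
  refine Nat.eq_of_testBit_eq fun j => Bool.eq_iff_iff.mpr ?_
  rw [testBit_img, Nat.one_shiftLeft, Nat.testBit_two_pow, decide_eq_true_eq]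
  constructor
  · rintro ⟨y, -, hy, he⟩
    rw [Nat.testBit_two_pow, decide_eq_true_eq] at hy
    exact hy ▸ he
  · exact fun he => ⟨x, hx, by rw [Nat.testBit_two_pow]; exact decide_eq_true rfl, he⟩

theorem tabOK_sound {p : PP} {t off : ℕ} (hoff : off + 8 ≤ 24) (h : tabOK p t off = true) :
    ∀ b < 256, lk t b = img p (b <<< off) := by
  simp only [tabOK, Bool.and_eq_true, List.all_eq_true, List.mem_range, beq_iff_eq] at h
  have key : ∀ i ≤ 8, ∀ b < 2 ^ i, lk t b = img p (b <<< off) := by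
    intro i
    induction i with
    | zero =>
      intro _ b hb
      obtain rfl : b = 0 := by simp only [pow_zero] at hb; omega
      rw [h.1, Nat.zero_shiftLeft]
      refine (Nat.eq_of_testBit_eq fun j => ?_).symm
      rw [Nat.zero_testBit, Bool.eq_false_iff]
      intro hj
      obtain ⟨x, -, hx, -⟩ := (testBit_img p 0 j).mp hj
      simp at hx
    | succ i ih =>
      intro hi b hb
      by_cases hlow : b < 2 ^ i
      · exact ih (by omega) b hlow
      · obtain ⟨c, rfl⟩ : ∃ c, b = c + 2 ^ i := ⟨b - 2 ^ i, by omega⟩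
        have hc : c < 2 ^ i := by rw [pow_succ] at hb; omega
        rw [h.2 i (by omega) c hc, ih (by omega) c hc, ← img_single p (x := off + i) (by omega), ← img_lor]
        congr 1
        have h2 := Nat.two_pow_add_eq_or_of_lt hc 1
        rw [mul_one] at h2
        rw [Nat.add_comm c (2 ^ i), h2, Nat.shiftLeft_or_distrib, Nat.lor_comm]
        congr 1
        rw [Nat.shiftLeft_eq, ← pow_add, Nat.add_comm]
  exact fun b hb => key 8 le_rfl b hb

theorem img3_eq {g : FG} (hg : fvalid g = true) {m : ℕ} (hm : m < 2 ^ 24) : img3 g m = img g.1 m := by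
  simp only [fvalid, Bool.and_eq_true] at hg
  obtain ⟨⟨⟨-, h1⟩, h2⟩, h3⟩ := hg
  have e : m = (m % 256) <<< 0 ||| (m / 256 % 256) <<< 8 ||| (m / 65536) <<< 16 := by
    have a1 : (m / 65536) <<< 16 = 2 ^ 16 * (m / 65536) := by rw [Nat.shiftLeft_eq, mul_comm]
    have a2 : (m / 256 % 256) <<< 8 = 2 ^ 8 * (m / 256 % 256) := by rw [Nat.shiftLeft_eq, mul_comm]
    have b1 := Nat.two_pow_add_eq_or_of_lt (i := 8) (b := m % 256) (by omega) (m / 256 % 256)
    have b2 := Nat.two_pow_add_eq_or_of_lt (i := 16) (b := 2 ^ 8 * (m / 256 % 256) + m % 256)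
      (by norm_num; omega) (m / 65536)
    rw [Nat.shiftLeft_zero, a1, a2, Nat.lor_comm (m % 256), ← b1, Nat.lor_comm, ← b2]
    norm_num
    omega
  have hm' : m / 65536 < 256 := Nat.div_lt_of_lt_mul (by omega)
  conv_rhs => rw [e, img_lor, img_lor, ← tabOK_sound (by norm_num) h1 _ (Nat.mod_lt _ (by norm_num)),
    ← tabOK_sound (by norm_num) h2 _ (Nat.mod_lt _ (by norm_num)), ← tabOK_sound (by norm_num) h3 _ hm']
  show lk _ (m &&& 255) ||| lk _ ((m >>> 8) &&& 255) ||| lk _ (m >>> 16) = _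
  rw [show (255 : ℕ) = 2 ^ 8 - 1 from rfl, Nat.and_two_pow_sub_one_eq_mod, Nat.and_two_pow_sub_one_eq_mod,
    Nat.shiftRight_eq_div_pow, Nat.shiftRight_eq_div_pow]

end Cfsg.Lib.Golay
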